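import Mathlib

set_option autoImplicit false

/-!
Extraspecial-like 2-groups: the centre has order two and contains every commutator.
Commutator calculus and the automorphisms `tau u`.
-/

namespace Cfsg.Agent.Helper5.ExSp

open scoped commutatorElement

variable {Q : Type*} [Group Q]

/-- the hypotheses used: `z` is the unique nontrivial central element and every commutator is central. -/
structure ES (z : Q) : Prop where
  zc : ∀ g : Q, g * z = z * g
  zz : z * z = 1
  z1 : z ≠ 1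
  cen : ∀ x : Q, (∀ g : Q, g * x = x * g) → x = 1 ∨ x = z
  com : ∀ x y g : Q, g * ⁅x, y⁆ = ⁅x, y⁆ * g
  card : Nat.card (Subgroup.center Q) = 2

namespace ES

variable {z : Q} (h : ES z)
include h

theorem zl (a b : Q) : a * (z * b) = z * (a * b) := by
  rw [← mul_assoc, h.zc, mul_assoc]

theorem zzl (a : Q) : z * (z * a) = a := by
  rw [← mul_assoc, h.zz, one_mul]

theorem comm_cases (x g : Q) : ⁅x, g⁆ = 1 ∨ ⁅x, g⁆ = z :=
  h.cen _ (h.com x g)

omit h in
theorem mul_eq (x g : Q) : x * g = ⁅x, g⁆ * (g * x) := by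
  simp [commutatorElement_def, mul_assoc]

theorem comm_sq (x g : Q) : ⁅x, g⁆ * ⁅x, g⁆ = 1 := by
  rcases h.comm_cases x g with h1 | h1 <;> rw [h1]
  · simp
  · exact h.zz

theorem comm_symm (x g : Q) : ⁅x, g⁆ = ⁅g, x⁆ := by
  have h1 : ⁅g, x⁆ = ⁅x, g⁆⁻¹ := (commutatorElement_inv x g).symm
  rw [h1]
  exact eq_inv_of_mul_eq_one_left (h.comm_sq x g)

theorem comm_mul_right (g x y : Q) : ⁅g, x * y⁆ = ⁅g, x⁆ * ⁅g, y⁆ := by
  have hc := h.com g y (g * x * g⁻¹)
  calc ⁅g, x * y⁆ = (g * x * g⁻¹) * ⁅g, y⁆ * x⁻¹ := by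
        simp only [commutatorElement_def]; group
    _ = ⁅g, y⁆ * (g * x * g⁻¹) * x⁻¹ := by rw [hc]
    _ = ⁅g, y⁆ * ⁅g, x⁆ := by simp only [commutatorElement_def]; group
    _ = ⁅g, x⁆ * ⁅g, y⁆ := (h.com g y ⁅g, x⁆).symm

theorem comm_mul_left (x y g : Q) : ⁅x * y, g⁆ = ⁅x, g⁆ * ⁅y, g⁆ := by
  rw [h.comm_symm (x * y) g, h.comm_mul_right, h.comm_symm g x, h.comm_symm g y]

theorem comm_z_left (g : Q) : ⁅z, g⁆ = 1 := by
  rw [commutatorElement_eq_one_iff_commute]
  exact (h.zc g).symm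

theorem comm_z_right (g : Q) : ⁅g, z⁆ = 1 := by
  rw [commutatorElement_eq_one_iff_commute]
  exact h.zc g

/-- squares are central. -/
theorem sq_cases (x : Q) : x * x = 1 ∨ x * x = z := by
  apply h.cen
  intro g
  have : ⁅g, x * x⁆ = 1 := by rw [h.comm_mul_right, h.comm_sq]
  exact (commutatorElement_eq_one_iff_commute.1 this).eq

theorem nc {x g : Q} (hx : ⁅x, g⁆ ≠ 1) : ⁅x, g⁆ = z := by
  rcases h.comm_cases x g with h1 | h1
  · exact absurd h1 hx
  · exact h1

theorem central_of_forall {x : Q} (hx : ∀ g : Q, ⁅x, g⁆ = 1) : x = 1 ∨ x = z := by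
  apply h.cen
  intro g
  exact ((commutatorElement_eq_one_iff_commute.1 (hx g)).eq).symm

end ES

/-! ### the automorphisms `tau u` for `u * u = z` -/

open Classical in
/-- `g ↦ g` if `u` commutes with `g`, `g ↦ g * u` otherwise. -/
noncomputable def tauFun (u g : Q) : Q := if ⁅u, g⁆ = 1 then g else g * u

theorem tauFun_pos {u g : Q} (hg : ⁅u, g⁆ = 1) : tauFun u g = g := by
  unfold tauFun; exact if_pos hg

theorem tauFun_neg {u g : Q} (hg : ⁅u, g⁆ ≠ 1) : tauFun u g = g * u := by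
  unfold tauFun; exact if_neg hg

namespace ES

variable {z : Q} (h : ES z)
include h

theorem tauFun_mul {u : Q} (hu : u * u = z) (g k : Q) :
    tauFun u (g * k) = tauFun u g * tauFun u k := by
  have hgk := h.comm_mul_right u g k
  rcases h.comm_cases u g with hg | hg <;> rcases h.comm_cases u k with hk | hk
  · have : ⁅u, g * k⁆ = 1 := by rw [hgk, hg, hk, one_mul]
    rw [tauFun_pos this, tauFun_pos hg, tauFun_pos hk]
  · have : ⁅u, g * k⁆ ≠ 1 := by rw [hgk, hg, hk, one_mul]; exact h.z1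
    have hk' : ⁅u, k⁆ ≠ 1 := by rw [hk]; exact h.z1
    rw [tauFun_neg this, tauFun_pos hg, tauFun_neg hk', mul_assoc]
  · have : ⁅u, g * k⁆ ≠ 1 := by rw [hgk, hg, hk, mul_one]; exact h.z1
    have hg' : ⁅u, g⁆ ≠ 1 := by rw [hg]; exact h.z1
    have hc : u * k = k * u := (commutatorElement_eq_one_iff_commute.1 hk).eq
    rw [tauFun_neg this, tauFun_neg hg', tauFun_pos hk, mul_assoc, mul_assoc, hc]
  · have : ⁅u, g * k⁆ = 1 := by rw [hgk, hg, hk, h.zz]
    have hg' : ⁅u, g⁆ ≠ 1 := by rw [hg]; exact h.z1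
    have hk' : ⁅u, k⁆ ≠ 1 := by rw [hk]; exact h.z1
    have hc : u * k = z * (k * u) := by rw [ES.mul_eq u k, hk]
    rw [tauFun_pos this, tauFun_neg hg', tauFun_neg hk']
    calc g * k = z * (z * (g * k)) := (h.zzl _).symm
      _ = g * (z * (k * (u * u))) := by rw [hu, h.zl g, h.zc k, h.zl g k]
      _ = g * u * (k * u) := by rw [mul_assoc g u, ← mul_assoc u k u, hc, mul_assoc z, mul_assoc k]

/-- `tau u` as a monoid hom. -/
noncomputable def tauHom {u : Q} (hu : u * u = z) : Q →* Q where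
  toFun := tauFun u
  map_one' := tauFun_pos (by simp)
  map_mul' := h.tauFun_mul hu

theorem tauHom_injective {u : Q} (hu : u * u = z) : Function.Injective (h.tauHom hu) := by
  rw [injective_iff_map_eq_one]
  intro g hg
  change tauFun u g = 1 at hg
  by_cases hc : ⁅u, g⁆ = 1
  · rwa [tauFun_pos hc] at hg
  · exfalso
    rw [tauFun_neg hc] at hg
    have : g = u⁻¹ := eq_inv_of_mul_eq_one_left hg
    apply hc
    rw [this, commutatorElement_eq_one_iff_commute]
    exact (Commute.refl u).inv_right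

variable [Finite Q]

/-- `tau u` as an automorphism. -/
noncomputable def tau {u : Q} (hu : u * u = z) : MulAut Q :=
  MulEquiv.ofBijective (h.tauHom hu)
    ⟨h.tauHom_injective hu, Finite.surjective_of_injective (h.tauHom_injective hu)⟩

theorem tau_apply {u : Q} (hu : u * u = z) (g : Q) : h.tau hu g = tauFun u g := rfl

theorem tau_pos {u : Q} (hu : u * u = z) {g : Q} (hg : ⁅u, g⁆ = 1) : h.tau hu g = g :=
  tauFun_pos hg

theorem tau_neg {u : Q} (hu : u * u = z) {g : Q} (hg : ⁅u, g⁆ ≠ 1) : h.tau hu g = g * u :=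
  tauFun_neg hg

theorem tau_mul_self {u : Q} (hu : u * u = z) : h.tau hu * h.tau hu = MulAut.conj u := by
  ext g
  rw [MulAut.mul_apply, MulAut.conj_apply]
  by_cases hc : ⁅u, g⁆ = 1
  · rw [h.tau_pos hu hc, h.tau_pos hu hc]
    have := (commutatorElement_eq_one_iff_commute.1 hc).eq
    rw [this, mul_assoc, mul_inv_cancel, mul_one]
  · have hc' : ⁅u, g * u⁆ ≠ 1 := by
      rw [h.comm_mul_right, commutatorElement_self, mul_one]; exact hc
    rw [h.tau_neg hu hc, h.tau_neg hu hc', mul_assoc, hu, ES.mul_eq u g, h.nc hc, h.zc g]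
    simp [mul_assoc]

theorem tau_comm {u v : Q} (hu : u * u = z) (hv : v * v = z) (huv : ⁅u, v⁆ = 1) :
    h.tau hu * h.tau hv = h.tau hv * h.tau hu := by
  have hvu : ⁅v, u⁆ = 1 := by rw [h.comm_symm]; exact huv
  have hcm : u * v = v * u := (commutatorElement_eq_one_iff_commute.1 huv).eq
  ext g
  rw [MulAut.mul_apply, MulAut.mul_apply]
  by_cases hcu : ⁅u, g⁆ = 1 <;> by_cases hcv : ⁅v, g⁆ = 1
  · rw [h.tau_pos hv hcv, h.tau_pos hu hcu, h.tau_pos hv hcv]
  · have h1 : ⁅u, g * v⁆ = 1 := by rw [h.comm_mul_right, hcu, huv, one_mul]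
    rw [h.tau_neg hv hcv, h.tau_pos hu h1, h.tau_pos hu hcu, h.tau_neg hv hcv]
  · have h1 : ⁅v, g * u⁆ = 1 := by rw [h.comm_mul_right, hcv, hvu, one_mul]
    rw [h.tau_pos hv hcv, h.tau_neg hu hcu, h.tau_pos hv h1]
  · have h1 : ⁅u, g * v⁆ ≠ 1 := by rw [h.comm_mul_right, huv, mul_one]; exact hcu
    have h2 : ⁅v, g * u⁆ ≠ 1 := by rw [h.comm_mul_right, hvu, mul_one]; exact hcv
    rw [h.tau_neg hv hcv, h.tau_neg hu h1, h.tau_neg hu hcu, h.tau_neg hv h2, mul_assoc, mul_assoc,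
      hcm]

theorem tau_central {u : Q} (hu : u * u = z) {ζ : Q} (hζ : ∀ g : Q, g * ζ = ζ * g) :
    h.tau hu ζ = ζ := by
  apply h.tau_pos hu
  rw [commutatorElement_eq_one_iff_commute]
  exact hζ u

end ES

end Cfsg.Agent.Helper5.ExSp
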