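import Cfsg.Agent.Helper5.ExSp.Split

set_option autoImplicit false

/-!
Main theorem: no complement to the inner automorphisms.
-/

namespace Cfsg.Agent.Helper5.ExSp

open scoped commutatorElement

variable {Q : Type*} [Group Q]

namespace ES

variable {z : Q} (h : ES z)
include h

open Classical in
theorem tau_eq [Finite Q] {u : Q} (hu : u * u = z) (g : Q) :
    h.tau hu g = if ⁅u, g⁆ = 1 then g else g * u := rfl

theorem no_complement [Finite Q] (hcard : 128 ≤ Nat.card Q) (L : Subgroup (MulAut Q)) :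
    ¬ ((MulAut.conj : Q →* MulAut Q).range).IsComplement' L := by
  intro hc
  obtain ⟨a, ea, b, eb, c, ec, ha2, hb2, hc2, haea, hbeb, hcec, hba, hbea, heba, hebea,
    hca, hcea, heca, hecea, hcb, hceb, hecb, heceb⟩ := h.exists_three_pairs hcard
  have sy : ∀ {x y : Q} {v : Q}, ⁅x, y⁆ = v → ⁅y, x⁆ = v := by
    intro x y v hv; rw [h.comm_symm]; exact hv
  have F : (⁅a, ea⁆ = z ∧ ⁅b, eb⁆ = z ∧ ⁅c, ec⁆ = z ∧ ⁅b, a⁆ = 1 ∧ ⁅b, ea⁆ = 1 ∧ ⁅eb, a⁆ = 1 ∧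
      ⁅eb, ea⁆ = 1 ∧ ⁅c, a⁆ = 1 ∧ ⁅c, ea⁆ = 1 ∧ ⁅ec, a⁆ = 1 ∧ ⁅ec, ea⁆ = 1 ∧ ⁅c, b⁆ = 1 ∧
      ⁅c, eb⁆ = 1 ∧ ⁅ec, b⁆ = 1 ∧ ⁅ec, eb⁆ = 1) ∧
      (⁅ea, a⁆ = z ∧ ⁅eb, b⁆ = z ∧ ⁅ec, c⁆ = z ∧ ⁅a, b⁆ = 1 ∧ ⁅ea, b⁆ = 1 ∧ ⁅a, eb⁆ = 1 ∧
      ⁅ea, eb⁆ = 1 ∧ ⁅a, c⁆ = 1 ∧ ⁅ea, c⁆ = 1 ∧ ⁅a, ec⁆ = 1 ∧ ⁅ea, ec⁆ = 1 ∧ ⁅b, c⁆ = 1 ∧
      ⁅eb, c⁆ = 1 ∧ ⁅b, ec⁆ = 1 ∧ ⁅eb, ec⁆ = 1) :=
    ⟨⟨haea, hbeb, hcec, hba, hbea, heba, hebea, hca, hcea, heca, hecea, hcb, hceb, hecb, heceb⟩,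
      ⟨sy haea, sy hbeb, sy hcec, sy hba, sy hbea, sy heba, sy hebea, sy hca, sy hcea, sy heca,
        sy hecea, sy hcb, sy hceb, sy hecb, sy heceb⟩⟩
  have Cba : Commute b a := commutatorElement_eq_one_iff_commute.1 hba
  have Cca : Commute c a := commutatorElement_eq_one_iff_commute.1 hca
  have Ccb : Commute c b := commutatorElement_eq_one_iff_commute.1 hcb
  -- d = a * b * c
  have hd2 : (a * b * c) * (a * b * c) = z := by
    calc a * b * c * (a * b * c) = a * (b * (c * (a * (b * c)))) := by simp only [mul_assoc]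
      _ = a * (a * (b * (b * (c * c)))) := by rw [Cca.left_comm, Cba.left_comm, Ccb.left_comm]
      _ = z := by rw [hc2, ← mul_assoc b b, hb2, h.zz, mul_one, ha2]
  obtain ⟨d, hd⟩ : ∃ d, d = a * b * c := ⟨_, rfl⟩
  rw [← hd] at hd2
  have D : (⁅d, a⁆ = 1 ∧ ⁅d, b⁆ = 1 ∧ ⁅d, c⁆ = 1 ∧ ⁅d, ea⁆ = z ∧ ⁅d, eb⁆ = z ∧ ⁅d, ec⁆ = z) ∧
      (⁅a, d⁆ = 1 ∧ ⁅b, d⁆ = 1 ∧ ⁅c, d⁆ = 1 ∧ ⁅ea, d⁆ = z ∧ ⁅eb, d⁆ = z ∧ ⁅ec, d⁆ = z) := by
    subst hd
    simp [h.comm_mul_left, h.comm_mul_right, F]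
  -- the automorphisms
  obtain ⟨ta, hta⟩ : ∃ t, t = h.tau ha2 := ⟨_, rfl⟩
  obtain ⟨tb, htb⟩ : ∃ t, t = h.tau hb2 := ⟨_, rfl⟩
  obtain ⟨tc, htc⟩ : ∃ t, t = h.tau hc2 := ⟨_, rfl⟩
  obtain ⟨td, htd⟩ : ∃ t, t = h.tau hd2 := ⟨_, rfl⟩
  have Tab : Commute ta tb := by rw [hta, htb]; exact h.tau_comm ha2 hb2 F.2.2.2.2.1
  have Tac : Commute ta tc := by rw [hta, htc]; exact h.tau_comm ha2 hc2 (by simp [F])
  have Tad : Commute ta td := by rw [hta, htd]; exact h.tau_comm ha2 hd2 (by simp [D])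
  have Tbc : Commute tb tc := by rw [htb, htc]; exact h.tau_comm hb2 hc2 (by simp [F])
  have Tbd : Commute tb td := by rw [htb, htd]; exact h.tau_comm hb2 hd2 (by simp [D])
  have Tcd : Commute tc td := by rw [htc, htd]; exact h.tau_comm hc2 hd2 (by simp [D])
  have saa : ta * ta = MulAut.conj a := by rw [hta]; exact h.tau_mul_self ha2
  have sbb : tb * tb = MulAut.conj b := by rw [htb]; exact h.tau_mul_self hb2
  have scc : tc * tc = MulAut.conj c := by rw [htc]; exact h.tau_mul_self hc2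
  have sdd : td * td = MulAut.conj d := by rw [htd]; exact h.tau_mul_self hd2
  obtain ⟨T1, hT1⟩ : ∃ T, T = ta * tb := ⟨_, rfl⟩
  obtain ⟨T2, hT2⟩ : ∃ T, T = ta * tc * td := ⟨_, rfl⟩
  have hT1sq : T1 * T1 ∈ (MulAut.conj : Q →* MulAut Q).range := by
    refine ⟨a * b, ?_⟩
    rw [hT1, Tab.symm.mul_mul_mul_comm, saa, sbb, map_mul]
  have hT2sq : T2 * T2 ∈ (MulAut.conj : Q →* MulAut Q).range := by
    refine ⟨a * c * d, ?_⟩
    have h1 : Commute td (ta * tc) := (Tad.symm).mul_right (Tcd.symm)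
    rw [hT2, h1.mul_mul_mul_comm, Tac.symm.mul_mul_mul_comm, saa, scc, sdd, map_mul, map_mul]
  have hT12 : T1 * T2 = T2 * T1 := by
    have h1 : Commute (ta * tb) ta := (Commute.refl ta).mul_left Tab.symm
    have h2 : Commute (ta * tb) tc := Tac.mul_left Tbc
    have h3 : Commute (ta * tb) td := Tad.mul_left Tbd
    rw [hT1, hT2]
    exact ((h1.mul_right h2).mul_right h3).eq
  have zcen : ∀ g : Q, g * z = z * g := h.zc
  have hT1z : T1 z = z := by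
    rw [hT1, MulAut.mul_apply, htb, hta, h.tau_central hb2 zcen, h.tau_central ha2 zcen]
  have hT2z : T2 z = z := by
    rw [hT2, MulAut.mul_apply, MulAut.mul_apply, htd, htc, hta, h.tau_central hd2 zcen,
      h.tau_central hc2 zcen, h.tau_central ha2 zcen]
  -- evaluation of T1, T2
  have ev1 : ∀ g : Q, T1 g = ta (tb g) := fun g => by rw [hT1, MulAut.mul_apply]
  have ev2 : ∀ g : Q, T2 g = ta (tc (td g)) := fun g => by
    rw [hT2, MulAut.mul_apply, MulAut.mul_apply]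
  have T1ea : T1 ea = ea * a := by
    simp [ev1, hta, htb, h.tau_eq, h.comm_mul_left, h.comm_mul_right, F, D, h.z1, h.zz]
  have T1eb : T1 eb = eb * b := by
    simp [ev1, hta, htb, h.tau_eq, h.comm_mul_left, h.comm_mul_right, F, D, h.z1, h.zz]
  have T1a : T1 a = a := by
    simp [ev1, hta, htb, h.tau_eq, h.comm_mul_left, h.comm_mul_right, F, D, h.z1, h.zz]
  have T1d : T1 d = d := by
    simp [ev1, hta, htb, h.tau_eq, h.comm_mul_left, h.comm_mul_right, F, D, h.z1, h.zz]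
  have T1da : T1 (d * a) = d * a := by rw [map_mul, T1d, T1a]
  have T2ea : T2 ea = ea * (d * a) := by
    simp [ev2, hta, htc, htd, h.tau_eq, h.comm_mul_left, h.comm_mul_right, F, D, h.z1, h.zz,
      mul_assoc]
  have T2eb : T2 eb = eb * d := by
    simp [ev2, hta, htc, htd, h.tau_eq, h.comm_mul_left, h.comm_mul_right, F, D, h.z1, h.zz]
  have T2ec : T2 ec = ec * (d * c) := by
    simp [ev2, hta, htc, htd, h.tau_eq, h.comm_mul_left, h.comm_mul_right, F, D, h.z1, h.zz,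
      mul_assoc]
  have T2a : T2 a = a := by
    simp [ev2, hta, htc, htd, h.tau_eq, h.comm_mul_left, h.comm_mul_right, F, D, h.z1, h.zz]
  have T2b : T2 b = b := by
    simp [ev2, hta, htc, htd, h.tau_eq, h.comm_mul_left, h.comm_mul_right, F, D, h.z1, h.zz]
  have T2c : T2 c = c := by
    simp [ev2, hta, htc, htd, h.tau_eq, h.comm_mul_left, h.comm_mul_right, F, D, h.z1, h.zz]
  have T2d : T2 d = d := by
    simp [ev2, hta, htc, htd, h.tau_eq, h.comm_mul_left, h.comm_mul_right, F, D, h.z1, h.zz]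
  have T2da : T2 (d * a) = d * a := by rw [map_mul, T2d, T2a]
  have T2dc : T2 (d * c) = d * c := by rw [map_mul, T2d, T2c]
  have Cda : Commute d a := commutatorElement_eq_one_iff_commute.1 D.1.1
  have Cdb : Commute d b := commutatorElement_eq_one_iff_commute.1 D.1.2.1
  have Cdc : Commute d c := commutatorElement_eq_one_iff_commute.1 D.1.2.2.1
  have hda2 : (d * a) * (d * a) = 1 := by
    rw [Cda.symm.mul_mul_mul_comm, hd2, ha2, h.zz]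
  have hdc2 : (d * c) * (d * c) = 1 := by
    rw [Cdc.symm.mul_mul_mul_comm, hd2, hc2, h.zz]
  -- the lifts
  haveI hnorm : ((MulAut.conj : Q →* MulAut Q).range).Normal :=
    ⟨by
      rintro _ ⟨g, rfl⟩ φ
      refine ⟨φ g, ?_⟩
      ext x
      simp [MulAut.conj_apply, map_mul, map_inv]⟩
  obtain ⟨n1, ⟨p, rfl⟩, hL1⟩ := exists_lift hc T1
  obtain ⟨n2, ⟨r, rfl⟩, hL2⟩ := exists_lift hc T2
  have E1 := sq_eq_one_of_compl hc ⟨p, rfl⟩ hL1 hT1sq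
  have E2 := sq_eq_one_of_compl hc ⟨r, rfl⟩ hL2 hT2sq
  have E3 := comm_of_compl hc ⟨p, rfl⟩ ⟨r, rfl⟩ hL1 hL2 hT12
  have e1 : ∀ g : Q, (MulAut.conj p * T1) ((MulAut.conj p * T1) g) = g := fun g => by
    rw [← MulAut.mul_apply, E1, MulAut.one_apply]
  have e2 : ∀ g : Q, (MulAut.conj r * T2) ((MulAut.conj r * T2) g) = g := fun g => by
    rw [← MulAut.mul_apply, E2, MulAut.one_apply]
  have e3 : ∀ g : Q, (MulAut.conj p * T1) ((MulAut.conj r * T2) g)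
      = (MulAut.conj r * T2) ((MulAut.conj p * T1) g) := fun g => by
    rw [← MulAut.mul_apply, E3, MulAut.mul_apply]
  have P1 : ⁅p, a⁆ = z := h.sqA p T1 hT1z T1ea T1a ha2 (e1 ea)
  have R1 : ⁅r, d⁆ = z := h.sqA r T2 hT2z T2eb T2d hd2 (e2 eb)
  have R2 : ⁅r, d * a⁆ = 1 := h.sqB r T2 hT2z T2ea T2da hda2 (e2 ea)
  have R3 : ⁅r, d * c⁆ = 1 := h.sqB r T2 hT2z T2ec T2dc hdc2 (e2 ec)
  have C1 : ⁅p, d⁆ = ⁅r, b⁆ :=
    h.comm_formula p r T1 T2 hT1z hT2z T1eb T2eb T1d T2b Cdb.eq.symm (e3 eb)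
  have C2 : ⁅p, d * a⁆ = ⁅r, a⁆ :=
    h.comm_formula p r T1 T2 hT1z hT2z T1ea T2ea T1da T2a
      (by rw [← mul_assoc, Cda.eq.symm, mul_assoc]) (e3 ea)
  rw [h.comm_mul_right, R1] at R2 R3
  have ra : ⁅r, a⁆ = z := h.eq_z_of_z_mul R2
  have rc : ⁅r, c⁆ = z := h.eq_z_of_z_mul R3
  have rb : ⁅r, b⁆ = z := by
    rcases h.comm_cases r b with e | e
    · exfalso
      rw [hd, h.comm_mul_right, h.comm_mul_right, ra, rc, e, mul_one, h.zz] at R1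
      exact h.z1 R1.symm
    · exact e
  rw [h.comm_mul_right, C1, rb, P1, ra, h.zz] at C2
  exact h.z1 C2.symm

end ES

end Cfsg.Agent.Helper5.ExSp
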