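import Cfsg.Agent.Helper5.ExSp.Basic

set_option autoImplicit false

/-!
Peeling off hyperbolic pairs `(u, e)` with `u * u = z` and `⁅u, e⁆ = z`.
-/

namespace Cfsg.Agent.Helper5.ExSp

open scoped commutatorElement

variable {Q : Type*} [Group Q]

namespace ES

variable {z : Q} (h : ES z)

/-- `g ↦ ⁅g, u⁆` as a hom into the centre. -/
def kap (u : Q) : Q →* Subgroup.center Q where
  toFun g := ⟨⁅g, u⁆, Subgroup.mem_center_iff.2 (h.com g u)⟩
  map_one' := by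
    apply Subtype.ext
    simp
  map_mul' x y := by
    apply Subtype.ext
    simpa using h.comm_mul_left x y u

/-- the centraliser of `u`. -/
def Cn (u : Q) : Subgroup Q := (h.kap u).ker

theorem mem_Cn {u g : Q} : g ∈ h.Cn u ↔ ⁅g, u⁆ = 1 := by
  unfold Cn
  rw [MonoidHom.mem_ker]
  constructor
  · intro hg
    exact congrArg Subtype.val hg
  · intro hg
    apply Subtype.ext
    exact hg

include h in
theorem card_le_two_mul [Finite Q] (H : Subgroup Q) (u : Q) :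
    Nat.card H ≤ 2 * Nat.card ↥(H ⊓ h.Cn u) := by
  have h1 : (⊥ : Subgroup Q).relIndex (H ⊓ h.Cn u) * (H ⊓ h.Cn u).relIndex H
      = (⊥ : Subgroup Q).relIndex H :=
    Subgroup.relIndex_mul_relIndex _ _ _ bot_le inf_le_left
  rw [Subgroup.relIndex_bot_left, Subgroup.relIndex_bot_left, Subgroup.inf_relIndex_left] at h1
  have h2 : (h.Cn u).relIndex H ≤ 2 := by
    unfold Cn
    rw [Subgroup.relIndex_ker, ← h.card]
    exact Subgroup.card_le_card_group _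
  calc Nat.card H = Nat.card ↥(H ⊓ h.Cn u) * (h.Cn u).relIndex H := h1.symm
    _ ≤ Nat.card ↥(H ⊓ h.Cn u) * 2 := Nat.mul_le_mul_left _ h2
    _ = 2 * Nat.card ↥(H ⊓ h.Cn u) := Nat.mul_comm _ _

include h in
theorem card_le_four_mul [Finite Q] (H : Subgroup Q) (u e : Q) :
    Nat.card H ≤ 4 * Nat.card ↥(H ⊓ h.Cn u ⊓ h.Cn e) := by
  have h1 := h.card_le_two_mul H u
  have h2 := h.card_le_two_mul (H ⊓ h.Cn u) e
  omega

end ES

/-- the centre of `H` is central in `Q`. -/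
def Good (H : Subgroup Q) : Prop :=
  ∀ x ∈ H, (∀ y ∈ H, ⁅x, y⁆ = 1) → ∀ g : Q, ⁅x, g⁆ = 1

theorem good_top : Good (⊤ : Subgroup Q) := fun _ _ hx g => hx g (Subgroup.mem_top g)

namespace ES

variable {z : Q} (h : ES z)
include h

theorem comm_cancel {x y u : Q} (h1 : ⁅x, y * u⁆ = 1) (h2 : ⁅x, u⁆ = 1) : ⁅x, y⁆ = 1 := by
  rw [h.comm_mul_right, h2, mul_one] at h1
  exact h1

theorem good_step {H : Subgroup Q} (hH : Good H) {u e : Q} (hu : u ∈ H) (he : e ∈ H)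
    (hue : ⁅u, e⁆ ≠ 1) : Good (H ⊓ h.Cn u ⊓ h.Cn e) := by
  have hue' : ⁅u, e⁆ = z := h.nc hue
  have heu' : ⁅e, u⁆ = z := by rw [h.comm_symm]; exact hue'
  intro x hx hxc
  simp only [Subgroup.mem_inf, h.mem_Cn] at hx
  obtain ⟨⟨hxH, hxu⟩, hxe⟩ := hx
  apply hH x hxH
  intro y hy
  -- a corrected version of `y`
  have key : ∀ w : Q, w ∈ H → ⁅x, w⁆ = 1 → ⁅y * w, u⁆ = 1 → ⁅y * w, e⁆ = 1 → ⁅x, y⁆ = 1 := by
    intro w hw hxw h1 h2
    have : y * w ∈ H ⊓ h.Cn u ⊓ h.Cn e := by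
      simp only [Subgroup.mem_inf, h.mem_Cn]
      exact ⟨⟨H.mul_mem hy hw, h1⟩, h2⟩
    exact h.comm_cancel (hxc _ this) hxw
  rcases h.comm_cases y u with hyu | hyu <;> rcases h.comm_cases y e with hye | hye
  · apply key 1 H.one_mem (by simp) <;> simpa
  · apply key u hu hxu
    · rw [h.comm_mul_left, hyu, commutatorElement_self, one_mul]
    · rw [h.comm_mul_left, hye, hue', h.zz]
  · apply key e he hxe
    · rw [h.comm_mul_left, hyu, heu', h.zz]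
    · rw [h.comm_mul_left, hye, commutatorElement_self, one_mul]
  · apply key (u * e) (H.mul_mem hu he) (by rw [h.comm_mul_right, hxu, hxe, one_mul])
    · rw [h.comm_mul_left, h.comm_mul_left, hyu, commutatorElement_self, heu', one_mul, h.zz]
    · rw [h.comm_mul_left, h.comm_mul_left, hye, commutatorElement_self, hue', mul_one, h.zz]

theorem exists_pair [Finite Q] {H : Subgroup Q} (hH : Good H) (hsz : 2 < Nat.card H) :
    ∃ u ∈ H, ∃ e ∈ H, u * u = z ∧ ⁅u, e⁆ ≠ 1 := by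
  -- a non-commuting pair
  have h1 : ∃ x ∈ H, ∃ y ∈ H, ⁅x, y⁆ ≠ 1 := by
    by_contra hcon
    push_neg at hcon
    have hle : H ≤ Subgroup.center Q := by
      intro x hx
      rw [Subgroup.mem_center_iff]
      intro g
      have := hH x hx (hcon x hx) g
      exact ((commutatorElement_eq_one_iff_commute.1 this).eq).symm
    have := Subgroup.card_le_of_le hle
    rw [h.card] at this
    omega
  obtain ⟨x, hx, y, hy, hxy⟩ := h1
  have hxy' : ⁅x, y⁆ = z := h.nc hxy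
  have hyx' : ⁅y, x⁆ = z := by rw [h.comm_symm]; exact hxy'
  rcases h.sq_cases x with hx2 | hx2
  · rcases h.sq_cases y with hy2 | hy2
    · refine ⟨x * y, H.mul_mem hx hy, x, hx, ?_, ?_⟩
      · have hc : y * x = z * (x * y) := by rw [ES.mul_eq y x, hyx']
        calc x * y * (x * y) = x * (y * x) * y := by simp only [mul_assoc]
          _ = z * (x * x * (y * y)) := by
              rw [hc, h.zl x, mul_assoc z]; simp only [mul_assoc]
          _ = z := by rw [hx2, hy2, mul_one, mul_one]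
      · rw [h.comm_mul_left, commutatorElement_self, one_mul, hyx']; exact h.z1
    · refine ⟨y, hy, x, hx, hy2, ?_⟩
      rw [hyx']; exact h.z1
  · exact ⟨x, hx, y, hy, hx2, hxy⟩

/-- three mutually commuting hyperbolic pairs. -/
theorem exists_three_pairs [Finite Q] (hcard : 128 ≤ Nat.card Q) :
    ∃ a ea b eb c ec : Q, a * a = z ∧ b * b = z ∧ c * c = z ∧
      ⁅a, ea⁆ = z ∧ ⁅b, eb⁆ = z ∧ ⁅c, ec⁆ = z ∧
      ⁅b, a⁆ = 1 ∧ ⁅b, ea⁆ = 1 ∧ ⁅eb, a⁆ = 1 ∧ ⁅eb, ea⁆ = 1 ∧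
      ⁅c, a⁆ = 1 ∧ ⁅c, ea⁆ = 1 ∧ ⁅ec, a⁆ = 1 ∧ ⁅ec, ea⁆ = 1 ∧
      ⁅c, b⁆ = 1 ∧ ⁅c, eb⁆ = 1 ∧ ⁅ec, b⁆ = 1 ∧ ⁅ec, eb⁆ = 1 := by
  have h0 : Nat.card (⊤ : Subgroup Q) = Nat.card Q := Subgroup.card_top
  obtain ⟨a, ha, ea, hea, ha2, haea⟩ := h.exists_pair good_top (by omega)
  have hg1 := h.good_step good_top ha hea haea
  have hs1 := h.card_le_four_mul ⊤ a ea
  obtain ⟨b, hb, eb, heb, hb2, hbeb⟩ := h.exists_pair hg1 (by omega)
  have hg2 := h.good_step hg1 hb heb hbeb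
  have hs2 := h.card_le_four_mul (⊤ ⊓ h.Cn a ⊓ h.Cn ea) b eb
  obtain ⟨c, hc, ec, hec, hc2, hcec⟩ := h.exists_pair hg2 (by omega)
  simp only [Subgroup.mem_inf, h.mem_Cn] at hb heb hc hec
  obtain ⟨⟨-, hba⟩, hbea⟩ := hb
  obtain ⟨⟨-, heba⟩, hebea⟩ := heb
  obtain ⟨⟨⟨⟨-, hca⟩, hcea⟩, hcb⟩, hceb⟩ := hc
  obtain ⟨⟨⟨⟨-, heca⟩, hecea⟩, hecb⟩, heceb⟩ := hec
  exact ⟨a, ea, b, eb, c, ec, ha2, hb2, hc2, h.nc haea, h.nc hbeb, h.nc hcec,
    hba, hbea, heba, hebea, hca, hcea, heca, hecea, hcb, hceb, hecb, heceb⟩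

end ES

end Cfsg.Agent.Helper5.ExSp
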