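import Cfsg.Agent.Helper5.ExSp.Peel

set_option autoImplicit false

/-!
The group of inner automorphisms of an extraspecial-like 2-group of order at least 128 has no
complement in the automorphism group.
-/

namespace Cfsg.Agent.Helper5.ExSp

open scoped commutatorElement

section Compl

variable {A : Type*} [Group A] {N L : Subgroup A}

theorem exists_lift (hc : N.IsComplement' L) (T : A) : ∃ n ∈ N, n * T ∈ L := by
  obtain ⟨⟨⟨n, hn⟩, ⟨l, hl⟩⟩, hnl⟩ := hc.2 T
  change n * l = T at hnl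
  refine ⟨n⁻¹, N.inv_mem hn, ?_⟩
  have : n⁻¹ * T = l := by rw [← hnl]; simp
  rw [this]; exact hl

theorem sq_eq_one_of_compl [N.Normal] (hc : N.IsComplement' L) {n T : A} (hn : n ∈ N)
    (hL : n * T ∈ L) (hT : T * T ∈ N) : (n * T) * (n * T) = 1 := by
  have h1 : (n * T) * (n * T) ∈ N := by
    have : (n * T) * (n * T) = n * (T * n * T⁻¹) * (T * T) := by group
    rw [this]
    exact N.mul_mem (N.mul_mem hn (Subgroup.Normal.conj_mem inferInstance n hn T)) hT
  have h2 : (n * T) * (n * T) ∈ L := L.mul_mem hL hL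
  exact Subgroup.disjoint_def.1 hc.disjoint h1 h2

theorem comm_of_compl [N.Normal] (hc : N.IsComplement' L) {n1 T1 n2 T2 : A} (hn1 : n1 ∈ N)
    (hn2 : n2 ∈ N) (hL1 : n1 * T1 ∈ L) (hL2 : n2 * T2 ∈ L) (hT : T1 * T2 = T2 * T1) :
    (n1 * T1) * (n2 * T2) = (n2 * T2) * (n1 * T1) := by
  have key : ∀ x : A, x ∈ N ↔ ((x : A ⧸ N) = 1) := fun x => (QuotientGroup.eq_one_iff x).symm
  have h1 : (n1 * T1) * (n2 * T2) * ((n2 * T2) * (n1 * T1))⁻¹ ∈ N := by
    rw [key]
    have e1 : ((n1 : A) : A ⧸ N) = 1 := (key n1).1 hn1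
    have e2 : ((n2 : A) : A ⧸ N) = 1 := (key n2).1 hn2
    simp only [QuotientGroup.mk_mul, QuotientGroup.mk_inv, e1, e2, one_mul]
    rw [← QuotientGroup.mk_mul, ← QuotientGroup.mk_mul, hT, mul_inv_cancel]
  have h2 : (n1 * T1) * (n2 * T2) * ((n2 * T2) * (n1 * T1))⁻¹ ∈ L :=
    L.mul_mem (L.mul_mem hL1 hL2) (L.inv_mem (L.mul_mem hL2 hL1))
  exact mul_inv_eq_one.1 (Subgroup.disjoint_def.1 hc.disjoint h1 h2)

end Compl

variable {Q : Type*} [Group Q]

theorem beta_apply (p : Q) (T : MulAut Q) (g : Q) :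
    (MulAut.conj p * T) g = ⁅p, T g⁆ * T g := by
  rw [MulAut.mul_apply, MulAut.conj_apply, commutatorElement_def]; group

namespace ES

variable {z : Q} (h : ES z)
include h

theorem beta_central (p : Q) (T : MulAut Q) (hT : T z = z) {ζ : Q} (hζ : ζ = 1 ∨ ζ = z) :
    (MulAut.conj p * T) ζ = ζ := by
  rcases hζ with rfl | rfl
  · exact map_one _
  · rw [MulAut.mul_apply, MulAut.conj_apply, hT, h.zc p, mul_assoc, mul_inv_cancel, mul_one]

theorem eq_z_of_z_mul {x : Q} (hx : z * x = 1) : x = z := by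
  have := h.zzl x
  rw [hx, mul_one] at this
  exact this.symm

theorem sq_formula (p : Q) (T : MulAut Q) (hT : T z = z) {g w : Q} (hg : T g = g * w)
    (hw : T w = w) :
    (MulAut.conj p * T) ((MulAut.conj p * T) g) = ⁅p, w⁆ * (g * (w * w)) := by
  have h1 : (MulAut.conj p * T) g = ⁅p, g * w⁆ * (g * w) := by rw [beta_apply, hg]
  have h2 : (MulAut.conj p * T) w = ⁅p, w⁆ * w := by rw [beta_apply, hw]
  have h3 : (MulAut.conj p * T) ⁅p, g * w⁆ = ⁅p, g * w⁆ :=
    h.beta_central p T hT (h.comm_cases _ _)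
  rw [h1, map_mul, map_mul, h3, h1, h2]
  rcases h.comm_cases p (g * w) with e1 | e1 <;> rcases h.comm_cases p w with e2 | e2 <;>
    rw [e1, e2] <;> simp only [one_mul, mul_one, mul_assoc, h.zl, h.zzl]

theorem sqA (p : Q) (T : MulAut Q) (hT : T z = z) {g w : Q} (hg : T g = g * w)
    (hw : T w = w) (hw2 : w * w = z)
    (heq : (MulAut.conj p * T) ((MulAut.conj p * T) g) = g) : ⁅p, w⁆ = z := by
  rw [h.sq_formula p T hT hg hw, hw2] at heq
  rcases h.comm_cases p w with e | e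
  · exfalso
    rw [e, one_mul] at heq
    exact h.z1 (mul_eq_left.1 heq)
  · exact e

theorem sqB (p : Q) (T : MulAut Q) (hT : T z = z) {g w : Q} (hg : T g = g * w)
    (hw : T w = w) (hw2 : w * w = 1)
    (heq : (MulAut.conj p * T) ((MulAut.conj p * T) g) = g) : ⁅p, w⁆ = 1 := by
  rw [h.sq_formula p T hT hg hw, hw2, mul_one] at heq
  exact mul_eq_right.1 heq

theorem comm_formula (p r : Q) (T1 T2 : MulAut Q) (hT1 : T1 z = z) (hT2 : T2 z = z)
    {g w1 w2 : Q} (hg1 : T1 g = g * w1) (hg2 : T2 g = g * w2) (hw2 : T1 w2 = w2)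
    (hw1 : T2 w1 = w1) (hw : w1 * w2 = w2 * w1)
    (heq : (MulAut.conj p * T1) ((MulAut.conj r * T2) g)
      = (MulAut.conj r * T2) ((MulAut.conj p * T1) g)) :
    ⁅p, w2⁆ = ⁅r, w1⁆ := by
  have h1 : (MulAut.conj p * T1) g = ⁅p, g * w1⁆ * (g * w1) := by rw [beta_apply, hg1]
  have h2 : (MulAut.conj r * T2) g = ⁅r, g * w2⁆ * (g * w2) := by rw [beta_apply, hg2]
  have h3 : (MulAut.conj p * T1) w2 = ⁅p, w2⁆ * w2 := by rw [beta_apply, hw2]
  have h4 : (MulAut.conj r * T2) w1 = ⁅r, w1⁆ * w1 := by rw [beta_apply, hw1]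
  have h5 : (MulAut.conj p * T1) ⁅r, g * w2⁆ = ⁅r, g * w2⁆ :=
    h.beta_central p T1 hT1 (h.comm_cases _ _)
  have h6 : (MulAut.conj r * T2) ⁅p, g * w1⁆ = ⁅p, g * w1⁆ :=
    h.beta_central r T2 hT2 (h.comm_cases _ _)
  rw [h1, h2, map_mul, map_mul, h5, h1, h3, map_mul, map_mul, h6, h2, h4] at heq
  rcases h.comm_cases p (g * w1) with e1 | e1 <;> rcases h.comm_cases r (g * w2) with e2 | e2 <;>
    rcases h.comm_cases p w2 with e3 | e3 <;> rcases h.comm_cases r w1 with e4 | e4 <;>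
    rw [e3, e4] <;> first
      | rfl
      | (exfalso
         rw [e1, e2, e3, e4] at heq
         simp only [one_mul, mul_one, mul_assoc, h.zl, h.zzl] at heq
         rw [hw] at heq
         simp [h.z1] at heq)

end ES

end Cfsg.Agent.Helper5.ExSp
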